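import Groth.Agent.Lib.GrpQ.Affinization
import Groth.Agent.Lib.GalPts.Restrict

/-!
# Extension of an action to the affine hull
-/

set_option autoImplicit false
set_option linter.unusedSectionVars false
set_option linter.style.haveILetI false

noncomputable section

universe u

open CategoryTheory Limits MonoidalCategory CartesianMonoidalCategory MonObj AlgebraicGeometry

namespace Groth.Agent.Lib.NoriRed76

open Groth.Agent.Lib.GrpQ.Affinization

variable {k : Type u} [Field k] {G Y : Over (Spec (CommRingCat.of k))}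

theorem qc_unit : QuasiCompact (𝟙_ (Over (Spec (CommRingCat.of k)))).hom :=
  inferInstanceAs (QuasiCompact (𝟙 _))

theorem qs_unit : QuasiSeparated (𝟙_ (Over (Spec (CommRingCat.of k)))).hom :=
  inferInstanceAs (QuasiSeparated (𝟙 _))

theorem isIso_whisker_appTop (X : Over (Spec (CommRingCat.of k))) [QuasiCompact X.hom] [QuasiSeparated X.hom]
    [QuasiCompact Y.hom] [QuasiSeparated Y.hom] : IsIso (X ◁ rho Y).left.appTop := by
  have : IsIso (Over.Hom.left (𝟙 X)).appTop := by
    rw [Over.id_left, Scheme.Hom.id_appTop]; infer_instance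
  have h := isIso_tensor_appTop (𝟙 X) (rho Y)
  rwa [id_tensorHom] at h

/-- An action of an affine group extends to the affine hull. -/
theorem exists_affAct [GrpObj G] [IsAffine G.left] [QuasiCompact Y.hom] [QuasiSeparated Y.hom]
    (a : AlgGrp.Action G Y) :
    ∃ a' : AlgGrp.Action G (aff Y), (G ◁ rho Y) ≫ a'.act = a.act ≫ rho Y := by
  have := qc_unit (k := k)
  have := qs_unit (k := k)
  have := qc_of_isAffine G
  have := qs_of_isAffine G
  have := isAffine_tensor G G
  have := qc_of_isAffine (G ⊗ G)
  have := qs_of_isAffine (G ⊗ G)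
  have := isIso_whisker_appTop (Y := Y) G
  have := isIso_whisker_appTop (Y := Y) (𝟙_ (Over (Spec (CommRingCat.of k))))
  have := isIso_whisker_appTop (Y := Y) (G ⊗ G)
  obtain ⟨m, hm⟩ := exists_fac (G ◁ rho Y) (a.act ≫ rho Y)
  refine ⟨⟨m, ?_, ?_⟩, hm⟩
  · apply eq_of_comp (𝟙_ (Over (Spec (CommRingCat.of k))) ◁ rho Y)
    rw [whisker_exchange_assoc, hm, reassoc_of% a.one_act, leftUnitor_naturality]
  · apply eq_of_comp ((G ⊗ G) ◁ rho Y)
    rw [whisker_exchange_assoc, hm, reassoc_of% a.mul_act, associator_naturality_right_assoc]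
    congr 1
    rw [← whiskerLeft_comp_assoc, hm, whiskerLeft_comp_assoc, hm]

end Groth.Agent.Lib.NoriRed76
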