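import Groth.Agent.Lib.GrpQ.Affinization
import Groth.Agent.Lib.GrpQ.FfMonoGrp
import Groth.Agent.Lib.GalPts.Restrict
import Groth.Agent.Lib.NoriFGS.Basic
import Groth.Agent.Lib.Homog.Affine
import Groth.Agent.Lib.TorsorSch.FibreProd
import Groth.Agent.Lib.TorsorSch.Descent
import Mathlib.AlgebraicGeometry.Artinian
import Mathlib.AlgebraicGeometry.Morphisms.QuasiFinite

/-!
# No nonconstant functions on a torsor: it is Nori-reduced
-/

set_option autoImplicit false
set_option linter.unusedSectionVars false
set_option linter.style.haveILetI false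

noncomputable section

universe u

open CategoryTheory Limits MonoidalCategory CartesianMonoidalCategory MonObj AlgebraicGeometry

namespace Groth.Agent.Lib.NoriRed76

open Groth.Agent.Lib Groth.Agent.Lib.GrpQ Groth.Agent.Lib.GalPts

variable {k : Type u} [Field k] {X : Scheme.{u}} (π : X ⟶ Spec (CommRingCat.of k))

theorem eq_toUnit_comp_of_fac {Y Z : Over (Spec (CommRingCat.of k))} [IsAffine Z.left]
    (hΓ : IsIso Y.hom.appTop) (f : Y ⟶ Z) : ∃ y : 𝟙_ (Over (Spec (CommRingCat.of k))) ⟶ Z, f = toUnit Y ≫ y := by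
  have : IsIso (toUnit Y).left.appTop := by
    rw [Over.toUnit_left]; exact hΓ
  obtain ⟨y, hy⟩ := Affinization.exists_fac (toUnit Y) f
  exact ⟨y, hy.symm⟩

/-- A quotient of a finite group is affine. -/
theorem isAffine_quot {G Q : Over (Spec (CommRingCat.of k))} [IsFinite G.hom] (p : G ⟶ Q) [Flat p.left]
    [Surjective p.left] [LocallyOfFinitePresentation p.left] : IsAffine Q.left := by
  have hS : DiscreteTopology ↥(Spec (CommRingCat.of k)) :=
    inferInstanceAs (DiscreteTopology (PrimeSpectrum k))
  have : IsLocallyArtinian G.left := IsLocallyArtinian.of_locallyQuasiFinite G.hom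
  have : CompactSpace ↥G.left := QuasiCompact.compactSpace_of_compactSpace G.hom
  have : Finite ↥G.left := finite_of_compact_of_discrete
  have : Finite ↥Q.left := Finite.of_surjective _ p.left.surjective
  have : DiscreteTopology ↥Q.left := by
    refine discreteTopology_iff_isOpen_singleton.2 fun q => ?_
    obtain ⟨g, rfl⟩ := p.left.surjective q
    rw [← Set.image_singleton]
    exact p.left.isOpenMap _ (isOpen_discrete _)
  infer_instance

theorem isTorsorFor_fpqc {G T : Over X} [GrpObj G] {a : AlgGrp.Action G T}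
    (ha : NonAbH1.IsTorsorFor Scheme.fppfPrecoverage a) : NonAbH1.IsTorsorFor Scheme.fpqcPrecoverage a :=
  TorsorSch.Descent.isTorsorFor_mono Scheme.fppfPrecoverage_le_fpqcPrecoverage ha

theorem torsor_finite {G : Over (Spec (CommRingCat.of k))} [GrpObj G] [IsFinite G.hom] {T : Over X}
    {a : AlgGrp.Action (Red.bc π G) T} (ha : NonAbH1.IsTorsorFor Scheme.fppfPrecoverage a) :
    IsFinite T.hom ∧ Flat T.hom ∧ Surjective T.hom ∧ LocallyOfFinitePresentation T.hom := by
  have hp := isTorsorFor_fpqc ha
  have h₁ : IsFinite T.hom := TorsorSch.Basic.of_hom (P := @IsFinite) hp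
    (MorphismProperty.pullback_snd (P := @IsFinite) _ π inferInstance)
  have h₂ : Flat T.hom := TorsorSch.Basic.of_hom (P := @Flat) hp
    (MorphismProperty.pullback_snd (P := @Flat) _ π (NoriFGS.flat_hom G))
  have h₃ : Surjective T.hom := TorsorSch.Basic.of_hom (P := @Surjective) hp
    (MorphismProperty.pullback_snd (P := @Surjective) _ π (NoriFGS.surjective_hom G))
  have : IsLocallyNoetherian (Spec (CommRingCat.of k)) := inferInstance
  have : LocallyOfFinitePresentation G.hom := LocallyOfFinitePresentation.iff_locallyOfFiniteType.2 inferInstance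
  have h₄ : LocallyOfFinitePresentation T.hom := TorsorSch.Basic.of_hom (P := @LocallyOfFinitePresentation) hp
    (MorphismProperty.pullback_snd (P := @LocallyOfFinitePresentation) _ π inferInstance)
  exact ⟨h₁, h₂, h₃, h₄⟩

/-- If a finite torsor has no functions but constants, every subtorsor is everything. -/
theorem isIso_of_appTop {G : Over (Spec (CommRingCat.of k))} [GrpObj G] [IsFinite G.hom] {T : Over X}
    {a : AlgGrp.Action (Red.bc π G) T} (ha : NonAbH1.IsTorsorFor Scheme.fppfPrecoverage a)
    (hΓ : IsIso (T.hom ≫ π).appTop)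
    {H : Over (Spec (CommRingCat.of k))} [GrpObj H] (i : H ⟶ G) [IsMonHom i] [IsClosedImmersion i.left]
    {V : Over X} (j : V ⟶ T) [IsClosedImmersion j.left]
    {b : AlgGrp.Action (Red.bc π H) V} (hb : NonAbH1.IsTorsorFor Scheme.fppfPrecoverage b)
    (he : AlgGrp.Action.IsEquivariant b (a.restrict ((Over.pullback π).map i)) j) : IsIso j := by
  have : IsAffine G.left := isAffine_of_isAffineHom G.hom
  have : IsFinite H.hom := by rw [← Over.w i]; infer_instance
  have := GrpQ.mono_of_left i
  have := GrpQ.mono_of_left j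
  obtain ⟨Q, aQ, o, hQ, -⟩ := Homog.exists_quotient_affine G H i
  obtain ⟨hQl, hQf, hQs, hpair⟩ := hQ
  have : IsLocallyNoetherian Q.left := LocallyOfFiniteType.isLocallyNoetherian Q.hom
  let q := aQ.orbitMap o
  have : LocallyOfFiniteType (q.left ≫ Q.hom) := by rw [Over.w]; infer_instance
  have : LocallyOfFiniteType q.left := locallyOfFiniteType_of_comp q.left Q.hom
  have : LocallyOfFinitePresentation q.left := LocallyOfFinitePresentation.iff_locallyOfFiniteType.2 inferInstance
  have : IsAffine Q.left := isAffine_quot q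
  let iX := (Over.pullback π).map i
  let qX := (Over.pullback π).map q
  have hmem : ∀ {W : Over (Spec (CommRingCat.of k))} (g g' : W ⟶ G),
      g ≫ q = g' ≫ q ↔ ∃ h, h ≫ i = g⁻¹ * g' := by
    intro W g g'
    constructor
    · intro e
      obtain ⟨h, hh⟩ := Homog.exists_rel hpair g g' e
      exact ⟨h, by rw [hh, inv_mul_cancel_left]⟩
    · rintro ⟨h, hh⟩
      have e : g' = lift g h ≫ (G ◁ i) ≫ μ[G] := by
        rw [Homog.comp_mulPair, hh, mul_inv_cancel_left]
      have w := congrArg (fun z => lift g h ≫ z) hpair.w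
      simp only [← Category.assoc, lift_fst] at w
      rw [e]
      simpa only [Category.assoc] using w
  have hflat : ∀ {Z : Over X} (h : Z ⟶ Red.bc π H), Restrict.flat π (h ≫ iX) = Restrict.flat π h ≫ i :=
    fun h => Restrict.flat_comp_map π h i
  have heq : ∀ {Z : Over X} (h : Z ⟶ Red.bc π H) (v : Z ⟶ V),
      (lift h v ≫ b.act) ≫ j = lift (h ≫ iX) (v ≫ j) ≫ a.act := by
    intro Z h v
    rw [Category.assoc, show b.act ≫ j = _ from he, lift_whiskerLeft_assoc, AlgGrp.Action.lift_restrict_act]
  -- the cover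
  let c : Red.bc π G ⊗ V ⟶ T := (Red.bc π G ◁ j) ≫ a.act
  have hc : ∀ {Z : Over X} (g : Z ⟶ Red.bc π G) (v : Z ⟶ V), lift g v ≫ c = lift g (v ≫ j) ≫ a.act := by
    intro Z g v
    rw [lift_whiskerLeft_assoc]
  let sh : Red.bc π G ⊗ V ⟶ T ⊗ V := lift c (snd _ _)
  have hsh : IsIso sh := by
    obtain ⟨g, hg, -⟩ := TorsorSch.FibreProd.existsUnique_of_pseudo ha.1 (snd T V ≫ j) (fst T V)
    refine ⟨lift g (snd T V), ?_, ?_⟩
    · apply CartesianMonoidalCategory.hom_ext
      · rw [Category.assoc, lift_fst, Category.id_comp]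
        refine (TorsorSch.FibreProd.existsUnique_of_pseudo ha.1 (sh ≫ snd T V ≫ j) (sh ≫ fst T V)).unique ?_ ?_
        · show lift (sh ≫ g) (sh ≫ snd T V ≫ j) ≫ a.act = _
          rw [← comp_lift_assoc, hg]
        · show lift (fst _ V) (sh ≫ snd T V ≫ j) ≫ a.act = _
          simp only [sh, lift_fst, lift_snd_assoc, c]
          rw [← lift_whiskerLeft_assoc, lift_fst_snd, Category.id_comp]
      · rw [Category.assoc, lift_snd, lift_snd, Category.id_comp]
    · apply CartesianMonoidalCategory.hom_ext
      · rw [Category.assoc, lift_fst, hc, hg, Category.id_comp]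
      · rw [Category.assoc, lift_snd, lift_snd, Category.id_comp]
  obtain ⟨-, hVf, hVs, hVp⟩ := torsor_finite π hb
  have hcl : c.left = sh.left ≫ (fst T V).left := by
    rw [← Over.comp_left, lift_fst]
  have : IsIso sh.left := inferInstanceAs (IsIso ((Over.forget _).map sh))
  have : Flat (fst T V).left := GrpSch.fst_left_of (P := @Flat) T hVf
  have : Surjective (fst T V).left := GrpSch.fst_left_of (P := @Surjective) T hVs
  have : LocallyOfFinitePresentation (fst T V).left :=
    GrpSch.fst_left_of (P := @LocallyOfFinitePresentation) T hVp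
  have : Flat c.left := by rw [hcl]; infer_instance
  have : Surjective c.left := by rw [hcl]; infer_instance
  have : LocallyOfFinitePresentation c.left := by rw [hcl]; infer_instance
  -- the morphism to the quotient
  obtain ⟨f, hf⟩ := FfMono.exists_desc_over c (fst (Red.bc π G) V ≫ qX) (fun Z x y hxy => by
    obtain ⟨h, hh, -⟩ := TorsorSch.FibreProd.existsUnique_of_pseudo hb.1 (y ≫ snd _ _) (x ≫ snd _ _)
    have ex : x ≫ c = lift (x ≫ fst _ _) ((x ≫ snd _ _) ≫ j) ≫ a.act := by
      rw [← hc, ← comp_lift, lift_fst_snd, Category.comp_id]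
    have ey : y ≫ c = lift (y ≫ fst _ _) ((y ≫ snd _ _) ≫ j) ≫ a.act := by
      rw [← hc, ← comp_lift, lift_fst_snd, Category.comp_id]
    rw [ex, ey, ← hh, heq, ← GrpSch.act_mul] at hxy
    have e := (TorsorSch.FibreProd.existsUnique_of_pseudo ha.1 ((y ≫ snd _ _) ≫ j) _).unique hxy rfl
    refine Restrict.flat_injective π ?_
    rw [← Category.assoc, ← Category.assoc, Restrict.flat_comp_map, Restrict.flat_comp_map]
    refine (hmem _ _).2 ⟨Restrict.flat π h, ?_⟩
    rw [← e, Restrict.flat_mul, hflat, inv_mul_cancel_left])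
  obtain ⟨y, hy⟩ := eq_toUnit_comp_of_fac (Y := (Over.map π).obj T) hΓ (Restrict.flat π f)
  -- the restriction of q is constant
  have hqc : ∀ {Z : Over X} (g : Z ⟶ Red.bc π G),
      Restrict.flat π g ≫ q = toUnit _ ≫ y := by
    have e1 : Restrict.flat π (fst (Red.bc π G) V ≫ qX) = toUnit _ ≫ y := by
      rw [← hf, Restrict.flat_comp, hy, ← Category.assoc, toUnit_unique ((Over.map π).map c ≫ toUnit _) (toUnit _)]
    have : Flat (fst (Red.bc π G) V).left := GrpSch.fst_left_of (P := @Flat) _ hVf
    have : Surjective (fst (Red.bc π G) V).left := GrpSch.fst_left_of (P := @Surjective) _ hVs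
    have : LocallyOfFinitePresentation (fst (Red.bc π G) V).left :=
      GrpSch.fst_left_of (P := @LocallyOfFinitePresentation) _ hVp
    have e2 : qX = Restrict.sharp π (toUnit _ ≫ y) := by
      refine FfMono.cancel_over (fst (Red.bc π G) V) (Restrict.flat_injective π ?_)
      rw [e1, Restrict.flat_comp, Restrict.flat_sharp, ← Category.assoc]
      exact congrArg (· ≫ y) (toUnit_unique _ _)
    intro Z g
    rw [← Restrict.flat_comp_map, show (Over.pullback π).map q = qX from rfl, e2, Restrict.flat_comp,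
      Restrict.flat_sharp, ← Category.assoc]
    exact congrArg (· ≫ y) (toUnit_unique _ _)
  have hall : ∀ {Z : Over X} (g : Z ⟶ Red.bc π G), ∃ h, h ≫ iX = g := by
    intro Z g
    obtain ⟨h, hh⟩ := (hmem (1 : (Over.map π).obj Z ⟶ G) (Restrict.flat π g)).1
      (by rw [hqc g, ← Restrict.flat_one (t := π) (G := G) (W := Z), hqc])
    refine ⟨Restrict.sharp π h, Restrict.flat_injective π ?_⟩
    rw [hflat, Restrict.flat_sharp, hh, inv_one, _root_.one_mul]
  obtain ⟨h, hh⟩ := hall (fst (Red.bc π G) V)
  obtain ⟨w, hw⟩ := FfMono.exists_factor_over c j (lift h (snd _ _) ≫ b.act) (𝟙 T) (by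
    rw [heq, hh, Category.comp_id, ← hc, lift_fst_snd, Category.id_comp])
  exact ⟨w, by rw [← cancel_mono j, Category.assoc, hw, Category.comp_id, Category.id_comp], hw⟩

end Groth.Agent.Lib.NoriRed76
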