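import Groth.Agent.Lib.NoriRed76.Act
import Groth.Agent.Lib.NoriRed76.Bwd
import Groth.Agent.Lib.GrpQ.InfSub
import Groth.Agent.Lib.GrpSch.ClosedDescent
import Groth.Agent.Lib.H3.CharFin
import Mathlib.AlgebraicGeometry.ZariskisMainTheorem

/-!
# A Nori-reduced torsor has no functions but constants

The orbit of the marked point on the affine hull of the torsor is a closed subscheme; its preimage is a
stable closed subscheme, so it comes from a closed subscheme of the base with full support, hence is
everything. The fibre of the hull map over the marked point is then a reduction to the stabiliser.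
-/

set_option autoImplicit false
set_option linter.unusedSectionVars false
set_option linter.style.haveILetI false

noncomputable section

universe u

open CategoryTheory Limits MonoidalCategory CartesianMonoidalCategory MonObj AlgebraicGeometry

namespace Groth.Agent.Lib.NoriRed76

open Groth.Agent.Lib Groth.Agent.Lib.GrpQ Groth.Agent.Lib.GalPts

variable {k : Type u} [Field k] {X : Scheme.{u}} (π : X ⟶ Spec (CommRingCat.of k))

theorem isIso_appTop_of_forall_isIso [IsProper π] [AlgebraicGeometry.IsReduced X] [ConnectedSpace X]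
    (x : Spec (CommRingCat.of k) ⟶ X) (hx : x ≫ π = 𝟙 _)
    {G : Over (Spec (CommRingCat.of k))} [GrpObj G] [IsFinite G.hom] {T : Over X}
    {a : AlgGrp.Action (Red.bc π G) T} (ha : NonAbH1.IsTorsorFor Scheme.fppfPrecoverage a)
    (t : Spec (CommRingCat.of k) ⟶ T.left) (ht : t ≫ T.hom = x)
    (hred : ∀ (H : Over (Spec (CommRingCat.of k))) [GrpObj H] (i : H ⟶ G) [IsMonHom i] [IsClosedImmersion i.left]
        (V : Over X) (j : V ⟶ T) [IsClosedImmersion j.left] (b : AlgGrp.Action (Red.bc π H) V),
        NonAbH1.IsTorsorFor Scheme.fppfPrecoverage b →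
        AlgGrp.Action.IsEquivariant b (a.restrict ((Over.pullback π).map i)) j → IsIso j) :
    IsIso (T.hom ≫ π).appTop := by
  obtain ⟨hTfin, hTf, hTs, hTp⟩ := torsor_finite π ha
  let Tk := (Over.map π).obj T
  have hprop : IsProper Tk.hom := inferInstanceAs (IsProper (T.hom ≫ π))
  have : IsAffine G.left := isAffine_of_isAffineHom G.hom
  have : LocallyOfFinitePresentation G.hom := LocallyOfFinitePresentation.iff_locallyOfFiniteType.2 inferInstance
  let A := Affinization.aff Tk
  let ρ : Tk ⟶ A := Affinization.rho Tk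
  have : IsFinite A.hom := by
    have := H3.CharFin.finite_appTop Tk
    have : IsFinite (Spec.map Tk.hom.appTop) := (IsFinite.SpecMap_iff _).2 this
    exact inferInstanceAs (IsFinite (Spec.map Tk.hom.appTop ≫ _))
  obtain ⟨a', ha'⟩ := exists_affAct (Restrict.mapAct π a)
  -- the value of the hull map at a point
  let τ : ∀ {Z : Over X}, (Z ⟶ T) → ((Over.map π).obj Z ⟶ A) := fun u => (Over.map π).map u ≫ ρ
  have τcomp : ∀ {Z Z' : Over X} (r : Z' ⟶ Z) (u : Z ⟶ T), τ (r ≫ u) = (Over.map π).map r ≫ τ u := by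
    intro Z Z' r u
    simp only [τ, Functor.map_comp, Category.assoc]
  have τact : ∀ {Z : Over X} (g : Z ⟶ Red.bc π G) (u : Z ⟶ T),
      τ (lift g u ≫ a.act) = lift (Restrict.flat π g) (τ u) ≫ a'.act := by
    intro Z g u
    have hg : Restrict.sharp π (Restrict.flat π g) = g := Restrict.flat_injective π (Restrict.flat_sharp π _)
    have e := Restrict.lift_mapActMor π a (Restrict.flat π g) u
    rw [hg] at e
    show (Over.map π).map _ ≫ ρ = _
    rw [← e, Category.assoc, show Restrict.mapActMor π a ≫ ρ = (G ◁ ρ) ≫ a'.act from ha'.symm,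
      lift_whiskerLeft_assoc]
  -- the orbit of the marked point
  let ξ : 𝟙_ (Over (Spec (CommRingCat.of k))) ⟶ A := Over.homMk (t ≫ ρ.left) (by
    rw [Category.assoc, Over.w ρ]
    show t ≫ T.hom ≫ π = 𝟙 _
    rw [reassoc_of% ht, hx])
  have hξc : IsClosedImmersion ξ.left := by
    have : IsClosedImmersion (ξ.left ≫ A.hom) := by
      rw [Over.w]
      exact inferInstanceAs (IsClosedImmersion (𝟙 _))
    exact IsClosedImmersion.of_comp ξ.left A.hom
  let o := a'.orbitMap ξ
  have hoact : ∀ {W : Over (Spec (CommRingCat.of k))} (g : W ⟶ G),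
      g ≫ o = lift g (toUnit W ≫ ξ) ≫ a'.act := by
    intro W g
    show g ≫ lift (𝟙 G) (toUnit G ≫ ξ) ≫ a'.act = _
    rw [comp_lift_assoc, Category.comp_id, ← Category.assoc g, toUnit_unique (g ≫ toUnit G) (toUnit W)]
  -- the stabiliser
  let H := pullback o ξ
  let i : H ⟶ G := pullback.fst o ξ
  have hH : IsPullback i (toUnit H) o ξ := by
    rw [toUnit_unique (toUnit H) (pullback.snd o ξ)]
    exact IsPullback.of_hasPullback o ξ
  have hi : IsClosedImmersion i.left :=
    MorphismProperty.of_isPullback (P := @IsClosedImmersion) (hH.map (Over.forget _)).flip hξc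
  have := GrpQ.mono_of_left i
  have hHmem : ∀ {W : Over (Spec (CommRingCat.of k))} (g : W ⟶ G),
      (∃ h, h ≫ i = g) ↔ g ≫ o = toUnit W ≫ ξ := by
    intro W g
    constructor
    · rintro ⟨h, rfl⟩
      rw [Category.assoc, hH.w, ← Category.assoc, toUnit_unique (h ≫ toUnit H) (toUnit W)]
    · exact fun e => ⟨hH.lift g (toUnit W) e, hH.lift_fst _ _ _⟩
  have himem : ∀ {W : Over (Spec (CommRingCat.of k))} (h : W ⟶ H),
      lift (h ≫ i) (toUnit W ≫ ξ) ≫ a'.act = toUnit W ≫ ξ := fun h => by
    rw [← hoact]; exact (hHmem _).1 ⟨h, rfl⟩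
  obtain ⟨_, hmon⟩ : ∃ _ : GrpObj H, IsMonHom i := by
    refine GrpQ.InfSub.exists_grpObj_of_mono i ((hHmem _).2 ?_) ((hHmem _).2 ?_) ((hHmem _).2 ?_)
    · rw [hoact, show η[G] = (1 : 𝟙_ (Over (Spec (CommRingCat.of k))) ⟶ G) by
        rw [Hom.one_def, toUnit_unique (toUnit _) (𝟙 _), Category.id_comp], AlgGrp.Action.lift_one_act]
    · rw [hoact, GrpSch.act_mul, himem, himem]
    · rw [hoact]
      conv_lhs => rw [← himem (𝟙 H), Category.id_comp, ← GrpSch.act_mul, inv_mul_cancel,
        AlgGrp.Action.lift_one_act]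
  have hflatH : Flat H.hom := NoriFGS.flat_hom H
  obtain ⟨Q, p, iQ, hpi, hps, hpf, hpp, hiQm, hQp, -⟩ :=
    FfMono.exists_quot_stab a' ξ i hH hflatH (Or.inr inferInstance)
  have : IsAffine Q.left := isAffine_quot p
  have hiQc : IsClosedImmersion iQ.left := by
    have : UniversallyClosed (p.left ≫ Q.hom) := by rw [Over.w]; infer_instance
    have : UniversallyClosed Q.hom := UniversallyClosed.of_comp_surjective p.left Q.hom
    have : IsProper Q.hom := {}
    have : IsProper (iQ.left ≫ A.hom) := by rw [Over.w]; infer_instance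
    exact (IsClosedImmersion.iff_isProper_and_mono iQ.left).2
      ⟨IsProper.of_comp iQ.left A.hom, (Over.forget _).map_mono iQ⟩
  have hQstab : ∀ {W : Over (Spec (CommRingCat.of k))} (g : W ⟶ G) (y : W ⟶ Q),
      ∃ y', y' ≫ iQ = lift g (y ≫ iQ) ≫ a'.act := by
    intro W g y
    have : Flat (G ◁ p).left := GrpSch.whiskerLeft_left_of (P := @Flat) G p hpf
    have : Surjective (G ◁ p).left := GrpSch.whiskerLeft_left_of (P := @Surjective) G p hps
    have : LocallyOfFinitePresentation (G ◁ p).left :=
      GrpSch.whiskerLeft_left_of (P := @LocallyOfFinitePresentation) G p hpp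
    obtain ⟨m, hm⟩ := FfMono.exists_factor_over (G ◁ p) iQ (μ[G] ≫ p) ((G ◁ iQ) ≫ a'.act) (by
      rw [Category.assoc, hpi, ← whiskerLeft_comp_assoc, hpi, hoact,
        show μ[G] = fst G G * snd G G by simp [Hom.mul_def], GrpSch.act_mul]
      have e : G ◁ o = lift (fst G G) (snd G G ≫ o) := by
        apply CartesianMonoidalCategory.hom_ext <;> simp
      rw [e, hoact])
    exact ⟨lift g y ≫ m, by rw [Category.assoc, hm, lift_whiskerLeft_assoc]⟩
  -- the preimage of the orbit comes from a closed subscheme of the base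
  let F : pullback ρ.left iQ.left ⟶ T.left := pullback.fst ρ.left iQ.left
  have hFc : IsClosedImmersion F := inferInstanceAs (IsClosedImmersion (pullback.fst ρ.left iQ.left))
  obtain ⟨X', jX, qX, hjX, hsq⟩ := GrpSch.exists_closedImmersion_descent T.hom F (fun {Z₀} x₀ x₁ e hx₀ => by
    let Z : Over X := Over.mk (x₀ ≫ T.hom)
    let u₀ : Z ⟶ T := Over.homMk x₀ rfl
    let u₁ : Z ⟶ T := Over.homMk x₁ e.symm
    obtain ⟨v, hv⟩ := hx₀
    obtain ⟨g, hg, -⟩ := TorsorSch.FibreProd.existsUnique_of_pseudo ha.1 u₀ u₁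
    let y : (Over.map π).obj Z ⟶ Q := Over.homMk (v ≫ pullback.snd ρ.left iQ.left) (by
      rw [← Over.w iQ, Category.assoc, ← pullback.condition_assoc]
      show v ≫ F ≫ ρ.left ≫ A.hom = (x₀ ≫ T.hom) ≫ π
      rw [reassoc_of% hv, Over.w ρ, Category.assoc]
      rfl)
    have hy : y ≫ iQ = τ u₀ := Over.OverMorphism.ext (by
      show (v ≫ pullback.snd ρ.left iQ.left) ≫ iQ.left = x₀ ≫ ρ.left
      rw [Category.assoc, ← pullback.condition, ← hv, Category.assoc])
    obtain ⟨y', hy'⟩ := hQstab (Restrict.flat π g) y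
    rw [hy, ← τact, hg] at hy'
    exact ⟨pullback.lift x₁ y'.left (congrArg Over.Hom.left hy').symm, pullback.lift_fst _ _ _⟩)
  have hsurjX : Surjective jX := by
    have hdisc : DiscreteTopology ↥(Spec (CommRingCat.of k)) :=
      inferInstanceAs (DiscreteTopology (PrimeSpectrum k))
    have : DiscreteTopology ↥A.left := by
      have : IsLocallyArtinian A.left := IsLocallyArtinian.of_locallyQuasiFinite A.hom
      infer_instance
    let U : Set ↥T.left := ρ.left ⁻¹' Set.range iQ.left
    have hU : IsClopen U := (isClopen_discrete _).preimage ρ.left.continuous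
    have hFr : Set.range F = U := Scheme.Pullback.range_fst ρ.left iQ.left
    have himg : T.hom '' U = Set.univ := by
      refine IsClopen.eq_univ ⟨T.hom.isClosedMap _ hU.1, T.hom.isOpenMap _ hU.2⟩ ?_
      let s : ↥(Spec (CommRingCat.of k)) := default
      refine ⟨_, t s, ?_, rfl⟩
      obtain ⟨g, hg⟩ : ∃ g : 𝟙_ (Over (Spec (CommRingCat.of k))) ⟶ G, g ≫ o = ξ :=
        ⟨1, by rw [hoact, AlgGrp.Action.lift_one_act, toUnit_unique (toUnit _) (𝟙 _), Category.id_comp]⟩
      refine ⟨(g ≫ p).left s, ?_⟩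
      have h' := congrArg Over.Hom.left (hg : g ≫ o = ξ)
      rw [show o = p ≫ iQ from hpi.symm, ← Category.assoc, Over.comp_left] at h'
      exact congr($h' s)
    refine ⟨fun z => ?_⟩
    obtain ⟨u, hu, rfl⟩ : z ∈ T.hom '' U := by rw [himg]; trivial
    rw [← hFr] at hu
    obtain ⟨v, rfl⟩ := hu
    exact ⟨qX v, congr($(hsq.w) v).symm⟩
  have : IsIso jX := isIso_of_isClosedImmersion_of_surjective jX
  have : IsIso F := MorphismProperty.of_isPullback (P := MorphismProperty.isomorphisms Scheme) hsq.flip ‹IsIso jX›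
  -- the orbit map covers the hull
  let f : Tk ⟶ Q := Over.homMk (inv F ≫ pullback.snd ρ.left iQ.left) (by
    rw [← Over.w iQ, Category.assoc, ← pullback.condition_assoc, IsIso.inv_hom_id_assoc, Over.w ρ])
  have hf : f ≫ iQ = ρ := Over.OverMorphism.ext (by
    show (inv F ≫ pullback.snd ρ.left iQ.left) ≫ iQ.left = ρ.left
    rw [Category.assoc, ← pullback.condition, IsIso.inv_hom_id_assoc])
  obtain ⟨s, hs⟩ := Affinization.exists_fac ρ f
  have hs' : s ≫ iQ = 𝟙 A := Affinization.eq_of_comp ρ (by rw [reassoc_of% hs, hf, Category.comp_id])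
  have : IsIso iQ := ⟨s, by rw [← cancel_mono iQ, Category.assoc, hs', Category.comp_id, Category.id_comp], hs'⟩
  have hiQl : IsIso iQ.left := inferInstanceAs (IsIso ((Over.forget _).map iQ))
  have hol : o.left = p.left ≫ iQ.left := by rw [← Over.comp_left, hpi]
  have : Flat o.left := by rw [hol]; infer_instance
  have : Surjective o.left := by rw [hol]; infer_instance
  have : LocallyOfFinitePresentation o.left := by rw [hol]; infer_instance
  -- the reduction
  let V : Over X := Over.mk (pullback.fst ρ.left ξ.left ≫ T.hom)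
  let j : V ⟶ T := Over.homMk (pullback.fst ρ.left ξ.left) rfl
  have hjc : IsClosedImmersion j.left := inferInstanceAs (IsClosedImmersion (pullback.fst ρ.left ξ.left))
  have := GrpQ.mono_of_left j
  have hVmem : ∀ {Z : Over X} (u : Z ⟶ T), (∃ v, v ≫ j = u) ↔ τ u = toUnit _ ≫ ξ := by
    intro Z u
    constructor
    · rintro ⟨v, rfl⟩
      refine Over.OverMorphism.ext ?_
      have e : v.left ≫ pullback.snd ρ.left ξ.left = (toUnit ((Over.map π).obj Z)).left := by
        have e0 : v.left ≫ pullback.snd ρ.left ξ.left ≫ (ξ.left ≫ A.hom) = Z.hom ≫ π := by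
          rw [← pullback.condition_assoc, Over.w ρ]
          show v.left ≫ pullback.fst ρ.left ξ.left ≫ T.hom ≫ π = _
          rw [← Over.w v]
          simp only [V, Over.mk_hom, Category.assoc]
        rw [Over.w ξ] at e0
        rw [Over.toUnit_left]
        exact Eq.trans (congrArg (fun z => v.left ≫ z) (Category.comp_id (pullback.snd ρ.left ξ.left)).symm) e0
      show (v.left ≫ pullback.fst ρ.left ξ.left) ≫ ρ.left = (toUnit ((Over.map π).obj Z)).left ≫ ξ.left
      rw [← e, Category.assoc, Category.assoc, pullback.condition]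
    · intro e
      exact ⟨Over.homMk (pullback.lift u.left (toUnit ((Over.map π).obj Z)).left (congrArg Over.Hom.left e))
        (by show _ ≫ pullback.fst ρ.left ξ.left ≫ T.hom = Z.hom; rw [pullback.lift_fst_assoc, Over.w]),
        Over.OverMorphism.ext (pullback.lift_fst _ _ _)⟩
  let iX := (Over.pullback π).map i
  have hjmem : ∀ {Z : Over X} (h : Z ⟶ Red.bc π H) (v : Z ⟶ V),
      ∃ v', v' ≫ j = lift (h ≫ iX) (v ≫ j) ≫ a.act := by
    intro Z h v
    refine (hVmem _).2 ?_
    rw [τact, (hVmem _).1 ⟨v, rfl⟩, Restrict.flat_comp_map, himem]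
  obtain ⟨bact, hbact⟩ := hjmem (fst (Red.bc π H) V) (snd _ _)
  have hb : ∀ {Z : Over X} (h : Z ⟶ Red.bc π H) (v : Z ⟶ V),
      (lift h v ≫ bact) ≫ j = lift (h ≫ iX) (v ≫ j) ≫ a.act := by
    intro Z h v
    rw [Category.assoc, hbact, comp_lift_assoc, lift_fst_assoc, lift_snd_assoc]
  let b : AlgGrp.Action (Red.bc π H) V := Restrict.mkAction bact
    (fun W v => by rw [← cancel_mono j, hb, MonObj.one_comp, AlgGrp.Action.lift_one_act])
    (fun W g h v => by rw [← cancel_mono j, hb, hb, hb, MonObj.mul_comp, GrpSch.act_mul])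
  have hb' : ∀ {Z : Over X} (h : Z ⟶ Red.bc π H) (v : Z ⟶ V),
      (lift h v ≫ b.act) ≫ j = lift (h ≫ iX) (v ≫ j) ≫ a.act := hb
  have hiXinj : ∀ {Z : Over X} (h h' : Z ⟶ Red.bc π H), h ≫ iX = h' ≫ iX → h = h' := by
    intro Z h h' e
    refine Restrict.flat_injective π ?_
    rw [← cancel_mono i, ← Restrict.flat_comp_map, ← Restrict.flat_comp_map, e]
  have hpseudo : NonAbH1.IsPseudoTorsorSch b := by
    obtain ⟨g, hg, -⟩ := TorsorSch.FibreProd.existsUnique_of_pseudo ha.1 (snd V V ≫ j) (fst V V ≫ j)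
    have e : Restrict.flat π g ≫ o = toUnit _ ≫ ξ := by
      have := τact g (snd V V ≫ j)
      rw [hg, (hVmem _).1 ⟨fst V V, rfl⟩, (hVmem _).1 ⟨snd V V, rfl⟩] at this
      rw [hoact]
      exact this.symm
    obtain ⟨h, hh⟩ := (hHmem _).2 e
    have hgh : Restrict.sharp π h ≫ iX = g := Restrict.flat_injective π (by
      rw [Restrict.flat_comp_map, Restrict.flat_sharp, hh])
    refine ⟨lift (Restrict.sharp π h) (snd V V), ?_, ?_⟩
    · apply CartesianMonoidalCategory.hom_ext
      · rw [Category.assoc, lift_fst, Category.id_comp]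
        refine hiXinj _ _ ?_
        refine (TorsorSch.FibreProd.existsUnique_of_pseudo ha.1 (snd (Red.bc π H) V ≫ j) (b.act ≫ j)).unique ?_ ?_
        · show lift ((lift b.act (snd _ V) ≫ Restrict.sharp π h) ≫ iX) _ ≫ a.act = _
          rw [Category.assoc, hgh]
          have := congrArg (fun z => lift b.act (snd (Red.bc π H) V) ≫ z) hg
          simp only [comp_lift_assoc, lift_snd_assoc, lift_fst_assoc] at this
          exact this
        · show lift (fst _ V ≫ iX) _ ≫ a.act = _
          rw [← hb', lift_fst_snd, Category.id_comp]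
      · rw [Category.assoc, lift_snd, lift_snd, Category.id_comp]
    · apply CartesianMonoidalCategory.hom_ext
      · rw [Category.assoc, lift_fst, Category.id_comp, ← cancel_mono j, hb', hgh, hg]
      · rw [Category.assoc, lift_snd, lift_snd, Category.id_comp]
  have hloc : NonAbH1.IsLocallyTrivialFor Scheme.fppfPrecoverage V := by
    let W : Over X := Over.mk (pullback.fst ρ.left o.left ≫ T.hom)
    let w : W ⟶ T := Over.homMk (pullback.fst ρ.left o.left) rfl
    let gk : (Over.map π).obj W ⟶ G := Over.homMk (pullback.snd ρ.left o.left) (by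
      rw [← Over.w o, ← pullback.condition_assoc, Over.w ρ]
      show pullback.fst ρ.left o.left ≫ T.hom ≫ π = (pullback.fst ρ.left o.left ≫ T.hom) ≫ π
      rw [Category.assoc])
    have hw : τ w = lift gk (toUnit _ ≫ ξ) ≫ a'.act := by
      rw [← hoact]
      exact Over.OverMorphism.ext pullback.condition
    obtain ⟨v, -⟩ := (hVmem (lift (Restrict.sharp π gk)⁻¹ w ≫ a.act)).2 (by
      rw [τact, Restrict.flat_inv, Restrict.flat_sharp, hw, ← GrpSch.act_mul, inv_mul_cancel,
        AlgGrp.Action.lift_one_act])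
    have : Flat (pullback.fst ρ.left o.left) := MorphismProperty.pullback_fst (P := @Flat) _ _ inferInstance
    have : Surjective (pullback.fst ρ.left o.left) :=
      MorphismProperty.pullback_fst (P := @Surjective) _ _ inferInstance
    have : LocallyOfFinitePresentation (pullback.fst ρ.left o.left) :=
      MorphismProperty.pullback_fst (P := @LocallyOfFinitePresentation) _ _ inferInstance
    refine ⟨Presieve.singleton (pullback.fst ρ.left o.left ≫ T.hom),
      Scheme.Hom.singleton_mem_fppfPrecoverage _, ?_⟩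
    rintro S' f ⟨⟩
    exact ⟨v.left, Over.w v⟩
  have : IsIso j := hred H i V j b ⟨hpseudo, hloc⟩ (by
    refine AlgGrp.Action.hom_ext_lift₂ fun {Z} h v => ?_
    rw [← Category.assoc, hb', lift_whiskerLeft_assoc, AlgGrp.Action.lift_restrict_act])
  -- conclusion
  have hconst : ρ = toUnit Tk ≫ ξ := by
    have := (hVmem (𝟙 T)).1 ⟨inv j, IsIso.inv_hom_id j⟩
    simpa [τ] using this
  have e1 : ρ.left.appTop = ξ.left.appTop ≫ (T.hom ≫ π).appTop := by
    conv_lhs => rw [hconst, Over.comp_left, Scheme.Hom.comp_appTop, Over.toUnit_left]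
    rfl
  have hiso : IsIso ρ.left.appTop := inferInstanceAs (IsIso (Affinization.rho Tk).left.appTop)
  rw [ConcreteCategory.isIso_iff_bijective]
  constructor
  · intro z z' e
    have h2 : (T.hom ≫ π).appTop ≫ t.appTop = 𝟙 _ := by
      rw [← Scheme.Hom.comp_appTop, reassoc_of% ht, hx, Scheme.Hom.id_appTop]
    have := congrArg t.appTop e
    have hz := fun z => congr($h2 z)
    simp only [CategoryTheory.comp_apply, CategoryTheory.id_apply] at hz
    rwa [hz, hz] at this
  · intro z
    obtain ⟨w, hw⟩ := (ConcreteCategory.bijective_of_isIso ρ.left.appTop).2 z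
    refine ⟨ξ.left.appTop w, ?_⟩
    rw [← hw, e1]
    rfl

end Groth.Agent.Lib.NoriRed76
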